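import Groth.Agent.FlatMor68.LocFree
import Groth.Agent.FlatMor67.LocProjective
import Mathlib.RingTheory.Localization.BaseChange

/-! Projectivity of the sections of a quasi-coherent module on affine opens is local. -/

set_option autoImplicit false
set_option backward.isDefEq.respectTransparency.types false
set_option linter.style.haveILetI false

noncomputable section

universe u

open CategoryTheory Limits AlgebraicGeometry TopologicalSpace Opposite TensorProduct

namespace Groth.Agent.Mods57

open QC70 FlatMor68.LocFree

variable {X : Scheme.{u}} (M : X.Modules) [M.IsQuasicoherent]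

/-- Sections on a basic open are the base change of the sections on the affine open. -/
theorem isBaseChange_res {U : X.Opens} (hU : IsAffineOpen U) (r : Γ(X, U)) :
    letI := basicModule M r
    letI : Algebra Γ(X, U) Γ(X, X.basicOpen r) := (X.presheaf.map (homOfLE (X.basicOpen_le r)).op).hom.toAlgebra
    haveI : IsScalarTower Γ(X, U) Γ(X, X.basicOpen r) Γ(M, X.basicOpen r) :=
      IsScalarTower.of_algebraMap_smul fun a m => rfl
    IsBaseChange Γ(X, X.basicOpen r) (resLinear M r) := by
  letI := basicModule M r
  letI : Algebra Γ(X, U) Γ(X, X.basicOpen r) := (X.presheaf.map (homOfLE (X.basicOpen_le r)).op).hom.toAlgebra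
  haveI : IsScalarTower Γ(X, U) Γ(X, X.basicOpen r) Γ(M, X.basicOpen r) :=
    IsScalarTower.of_algebraMap_smul fun a m => rfl
  haveI : IsLocalization.Away r Γ(X, X.basicOpen r) := hU.isLocalization_basicOpen r
  haveI : IsLocalizedModule.Away r (resLinear M r) :=
    isLocalizedModule_res M (isLocAt_of_isQuasicoherent M hU) r
  exact IsLocalizedModule.isBaseChange (Submonoid.powers r) _ _

theorem projective_basicOpen {U : X.Opens} (hU : IsAffineOpen U) (r : Γ(X, U))
    (h : Module.Projective Γ(X, U) Γ(M, U)) :
    Module.Projective Γ(X, X.basicOpen r) Γ(M, X.basicOpen r) := by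
  letI := basicModule M r
  letI : Algebra Γ(X, U) Γ(X, X.basicOpen r) := (X.presheaf.map (homOfLE (X.basicOpen_le r)).op).hom.toAlgebra
  haveI : IsScalarTower Γ(X, U) Γ(X, X.basicOpen r) Γ(M, X.basicOpen r) :=
    IsScalarTower.of_algebraMap_smul fun a m => rfl
  exact Module.Projective.of_equiv (isBaseChange_res M hU r).equiv

theorem projective_of_cover {U : X.Opens} (hU : IsAffineOpen U) (s : Finset Γ(X, U))
    (hs : Ideal.span (s : Set Γ(X, U)) = ⊤)
    (h : ∀ r : s, Module.Projective Γ(X, X.basicOpen r.1) Γ(M, X.basicOpen r.1)) :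
    Module.Projective Γ(X, U) Γ(M, U) := by
  refine FlatMor67.projective_of_localizationSpan Γ(M, U) _ hs fun r hr => ?_
  haveI := h ⟨r, hr⟩
  let R := Γ(X, U)
  let A := Γ(X, X.basicOpen r)
  let L := Localization.Away r
  letI := basicModule M r
  letI : Algebra R A := (X.presheaf.map (homOfLE (X.basicOpen_le r)).op).hom.toAlgebra
  haveI : IsScalarTower R A Γ(M, X.basicOpen r) := IsScalarTower.of_algebraMap_smul fun a m => rfl
  haveI : IsLocalization.Away r A := hU.isLocalization_basicOpen r
  let σ : A ≃ₐ[R] L := IsLocalization.algEquiv (Submonoid.powers r) A L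
  letI : Algebra A L := σ.toAlgHom.toRingHom.toAlgebra
  haveI : IsScalarTower R A L := IsScalarTower.of_algebraMap_eq fun a => (σ.commutes a).symm
  haveI : Module.Projective A (A ⊗[R] Γ(M, U)) := Module.Projective.of_equiv (isBaseChange_res M hU r).equiv.symm
  haveI : Module.Projective L (L ⊗[A] (A ⊗[R] Γ(M, U))) := inferInstance
  exact Module.Projective.of_equiv ((TensorProduct.AlgebraTensorModule.cancelBaseChange R A L L Γ(M, U)).trans
    (LocalizedModule.equivTensorProduct (Submonoid.powers r) Γ(M, U)).symm)

theorem projective_of_openCover {ι : Type*} (U : ι → X.Opens) (hcov : ⨆ i, U i = ⊤)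
    (hU : ∀ i, IsAffineOpen (U i)) (h : ∀ i, Module.Projective Γ(X, U i) Γ(M, U i))
    {V : X.Opens} (hV : IsAffineOpen V) : Module.Projective Γ(X, V) Γ(M, V) :=
  of_affine_open_cover (P := fun V : X.affineOpens => Module.Projective Γ(X, V.1) Γ(M, V.1))
    (fun i => ⟨U i, hU i⟩) hcov ⟨V, hV⟩ (fun W f hW => projective_basicOpen M W.2 f hW)
    (fun W s hs hW => projective_of_cover M W.2 s hs hW) h

end Groth.Agent.Mods57
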